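import Cfsg.Agent.H511.Ore.Deg
import Cfsg.Agent.H651.Two.J4
import Cfsg.Agent.H664.Eight.Base
import Cfsg.Agent.H450.S8.Core

/-!
# S4908, `J₄`: the numerical facts on the degrees (helper952)

`num` : a degree of `J₄` divides `|J₄|`, is `1` or at least `1333`, and is `0, ±1` modulo `23, 29`, `0, ±1, ±14` modulo
`43`, `0, ±1, ±12` modulo `37`, `0, ±1, ±10` modulo `31`.
-/

set_option autoImplicit false
set_option maxRecDepth 100000

open Cfsg Subgroup

namespace Cfsg.Agent.H952.S8.JFour

open Cfsg.Agent.H877.IMJ4 (finJ4 simple nonab)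

/-- the residues -/
def res (d : ℕ) : Bool :=
  [(43, 14), (37, 12), (31, 10), (29, 1), (23, 1)].all fun x => [0, 1, x.1 - 1, x.2, x.1 - x.2].contains (d % x.1)

theorem min_chk : ((List.range 1333).all fun d => decide (¬ d ∣ 86775571046077562880) || !res d || d == 1) = true := by
  decide +kernel

theorem contains_of_any {l : List (ℕ × ℤ)} {m : ℕ} (h : (l.any fun rw => Nat.beq m rw.1) = true) :
    m ∈ l.map Prod.fst := by
  obtain ⟨x, hx, h1⟩ := List.any_eq_true.1 h
  rw [Nat.eq_of_beq_eq_true h1]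
  exact List.mem_map_of_mem hx

theorem deg {d : ℕ} (hd : d ∈ charDegrees Spor.J4) : d ∣ 86775571046077562880 ∧ res d = true := by
  obtain ⟨χ, rfl⟩ := hd
  have := simple
  have := finJ4
  have hok := List.all_eq_true.1 H651.Two.J4.ok
  refine ⟨H651.Two.J4.card' ▸ H511.Ore.charDegree_dvd χ, ?_⟩
  have key : ∀ c ∈ H651.Two.J4.cd, charDegree (χ : Spor.J4 → ℂ) % c.r ∈ c.wl.map Prod.fst := fun c hc =>
    contains_of_any (H511.Ore.res_of_has nonab H651.Two.J4.card' (H651.Two.J4.has c hc) (hok c hc) χ)
  rw [res, List.all_eq_true]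
  intro x hx
  simp only [List.mem_cons, List.not_mem_nil, or_false] at hx
  rcases hx with rfl | rfl | rfl | rfl | rfl
  · have h := key ⟨43, 1, 14, 3, [(0, 0), (1, 3), (14, -1), (29, 1), (42, -3)], 3, true⟩ (by simp [H651.Two.J4.cd])
    simp only [List.map_cons, List.map_nil, List.mem_cons, List.not_mem_nil, or_false] at h
    rcases h with h | h | h | h | h <;> rw [h] <;> decide
  · have h := key ⟨37, 1, 12, 3, [(0, 0), (1, 3), (12, -1), (25, 1), (36, -3)], 3, true⟩ (by simp [H651.Two.J4.cd])
    simp only [List.map_cons, List.map_nil, List.mem_cons, List.not_mem_nil, or_false] at h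
    rcases h with h | h | h | h | h <;> rw [h] <;> decide
  · have h := key ⟨31, 1, 10, 3, [(0, 0), (1, 3), (10, -1), (21, 1), (30, -3)], 3, true⟩ (by simp [H651.Two.J4.cd])
    simp only [List.map_cons, List.map_nil, List.mem_cons, List.not_mem_nil, or_false] at h
    rcases h with h | h | h | h | h <;> rw [h] <;> decide
  · have h := key ⟨29, 1, 28, 1, [(0, 0), (1, 1), (28, -1)], 0, false⟩ (by simp [H651.Two.J4.cd])
    simp only [List.map_cons, List.map_nil, List.mem_cons, List.not_mem_nil, or_false] at h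
    rcases h with h | h | h <;> rw [h] <;> decide
  · have h := key ⟨23, 1, 22, 1, [(0, 0), (1, 1), (22, -1)], 0, false⟩ (by simp [H651.Two.J4.cd])
    simp only [List.map_cons, List.map_nil, List.mem_cons, List.not_mem_nil, or_false] at h
    rcases h with h | h | h <;> rw [h] <;> decide

theorem degX {X : Type*} [Group X] (hX : Spor.IsoJ4 X) {d : ℕ} (hd : d ∈ charDegrees X) :
    d ∣ 86775571046077562880 ∧ (d = 1 ∨ 1333 ≤ d) ∧ res d = true := by
  obtain ⟨e⟩ := hX
  obtain ⟨h1, h2⟩ := deg (H664.Eight.charDegrees_subset e.symm hd)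
  refine ⟨h1, ?_, h2⟩
  rcases Nat.lt_or_ge d 1333 with h | h
  · left
    have h3 := List.all_eq_true.1 min_chk d (List.mem_range.2 h)
    rw [h2, decide_eq_false (not_not.2 h1), Bool.false_or, Bool.not_true, Bool.false_or, beq_iff_eq] at h3
    exact h3
  · exact Or.inr h

/-- the strongest form -/
theorem num' {X : Type*} [Group X] (hX : Spor.IsoJ4 X) :
    H450.S8.Num (charDegrees X) 86775571046077562880
      (H450.S8.okDeg 1333 [(43, 14), (37, 12), (31, 10), (29, 1), (23, 1)]) where
  pos := by norm_num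
  dvd hd := (degX hX hd).1
  ok {d} hd := by
    obtain ⟨-, h1, h2⟩ := degX hX hd
    rw [H450.S8.okDeg, Bool.and_eq_true]
    refine ⟨?_, h2⟩
    rw [Bool.or_eq_true, beq_iff_eq, decide_eq_true_eq]
    exact h1

/-- the form used by the row -/
theorem num {X : Type*} [Group X] (hX : Spor.IsoJ4 X) :
    H450.S8.Num (charDegrees X) 86775571046077562880 (H450.S8.okDeg 759 [(43, 14)]) where
  pos := by norm_num
  dvd hd := (degX hX hd).1
  ok {d} hd := by
    obtain ⟨-, h1, h2⟩ := degX hX hd
    rw [H450.S8.okDeg, Bool.and_eq_true]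
    refine ⟨?_, ?_⟩
    · rw [Bool.or_eq_true, beq_iff_eq, decide_eq_true_eq]
      exact h1.imp_right fun h => by omega
    · rw [List.all_eq_true]
      intro x hx
      rw [List.mem_singleton] at hx
      subst hx
      exact List.all_eq_true.1 h2 (43, 14) (by simp)

end Cfsg.Agent.H952.S8.JFour
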