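import Cfsg.Agent.H133.Ore.DegSuz
import Cfsg.Agent.H704.S8.Defs3
import Cfsg.Agent.H664.Eight.Base
import Cfsg.Agent.H450.S8.Core
import Cfsg.Agent.H498.SporOut

/-!
# S4908, `Suz`: the numerical facts on the degrees (helper952)

`deg` : a degree of `Suz` divides `|Suz|`, is `1` or at least `110`, and is `0, ±1, ±6` modulo `13`, `0, ±1` modulo `11`.
-/

set_option autoImplicit false

open Cfsg Subgroup

namespace Cfsg.Agent.H952.S8.Suz

open Cfsg.Agent.H133.Ore.Suz

theorem deg {d : ℕ} (hd : d ∈ charDegrees Spor.Suz) :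
    d ∣ 448345497600 ∧ (d = 1 ∨ 110 ≤ d) ∧
      (d % 13 = 0 ∨ d % 13 = 1 ∨ d % 13 = 6 ∨ d % 13 = 7 ∨ d % 13 = 12) ∧
      (d % 11 = 0 ∨ d % 11 = 1 ∨ d % 11 = 10) := by
  obtain ⟨χ, rfl⟩ := hd
  have := simple
  have := fin
  have hok := List.all_eq_true.1 ok
  refine ⟨card ▸ H511.Ore.charDegree_dvd χ, ?_, ?_, ?_⟩
  · by_cases h : (χ : Spor.Suz → ℂ) = 1
    · left
      rw [h]
      simp [charDegree]
    · exact Or.inr (minDeg χ h)
  · have h := H511.Ore.res_of_has not_comm card (has c13 (by simp [cd])) (hok c13 (by simp [cd])) χ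
    simpa [c13, or_assoc] using h
  · have h := H511.Ore.res_of_has not_comm card (has c11 (by simp [cd])) (hok c11 (by simp [cd])) χ
    simpa [c11, or_assoc] using h

theorem degX {X : Type*} [Group X] (hX : Spor.IsoSuz X) {d : ℕ} (hd : d ∈ charDegrees X) :
    d ∣ 448345497600 ∧ (d = 1 ∨ 110 ≤ d) ∧
      (d % 13 = 0 ∨ d % 13 = 1 ∨ d % 13 = 6 ∨ d % 13 = 7 ∨ d % 13 = 12) ∧
      (d % 11 = 0 ∨ d % 11 = 1 ∨ d % 11 = 10) := by
  obtain ⟨e⟩ := hX
  exact deg (H664.Eight.charDegrees_subset e.symm hd)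

theorem num {X : Type*} [Group X] (hX : Spor.IsoSuz X) :
    H450.S8.Num (charDegrees X) 448345497600 (H450.S8.okDeg 110 [(13, 6)]) where
  pos := by norm_num
  dvd hd := (degX hX hd).1
  ok {d} hd := by
    obtain ⟨-, h1, h2, -⟩ := degX hX hd
    rw [H450.S8.okDeg, Bool.and_eq_true]
    refine ⟨?_, ?_⟩
    · rw [Bool.or_eq_true, beq_iff_eq, decide_eq_true_eq]
      exact h1
    · rw [List.all_eq_true]
      intro x hx
      rw [List.mem_singleton] at hx
      subst hx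
      rcases h2 with h | h | h | h | h <;> rw [h] <;> decide

theorem index_le {X : Type*} [Group X] (hX : Spor.IsoSuz X) : (MulAut.conj : X →* MulAut X).range.index ≤ 2 := by
  obtain ⟨e⟩ := hX
  rw [H498.SporOut.index_congr e]
  exact Cfsg.Agent.S2074.result.le

end Cfsg.Agent.H952.S8.Suz
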