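import Cfsg.Agent.H952.S8.FiPure
import Cfsg.Agent.H433.Fpr.Fi22
import Cfsg.Agent.H133.Ore.Tools
import Cfsg.Agent.H651.Two.Row
import Cfsg.Agent.H664.Eight.Base
import Cfsg.Agent.H450.S8.Core
import Cfsg.Agent.H498.SporOut
import Cfsg.Agent.S2079

/-!
# S4908, `Fi₂₂`: the numerical facts on the degrees (helper952)

A degree of `Fi₂₂` divides `|Fi₂₂|`, is `1` or at least `65`, and is `0, ±1, ±6` modulo `13`, `0, ±1, ±5` modulo `11`.
-/

set_option autoImplicit false
set_option maxRecDepth 100000

open Cfsg Subgroup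

namespace Cfsg.Agent.H952.S8.FiDeg

open Cfsg.Agent.H653.Sieve Cfsg.Agent.H651.Two
open Cfsg.Agent.H433.Fpr.Fi22 (simple fin cn11 cn13)

theorem card : Nat.card Spor.Fi22 = 64561751654400 := Cfsg.Agent.S1696.result.2

theorem not_comm : ¬ IsMulCommutative Spor.Fi22 := by
  have := simple
  have := fin
  exact H133.Ore.not_comm_of (by rw [card]; norm_num)

def c13 : CD := ⟨13, 1, 6, 2, [(0, 0), (1, 2), (6, -1), (7, 1), (12, -2)], 2, true⟩

def c11 : CD := ⟨11, 2, 5, 2, [(0, 0), (1, 2), (5, -1), (6, 1), (10, -2)], 2, false⟩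

theorem ok13 : c13.ok 64561751654400 = true := by decide +kernel

theorem ok11 : c11.ok 64561751654400 = true := by decide +kernel

theorem has13 : c13.Has Spor.Fi22 := by
  have := fin
  exact has_of_sub (by norm_num [c13]) (by rw [card]; norm_num [c13]) fun R hR => (cn13 hR).1

theorem has11 : c11.Has Spor.Fi22 := by
  have := fin
  exact has_of_sub (by norm_num [c11]) (by rw [card]; norm_num [c11]) fun R hR => (cn11 hR).1

/-- the residues -/
def res (d : ℕ) : Bool :=
  [(13, 6), (11, 5)].all fun x => [0, 1, x.1 - 1, x.2, x.1 - x.2].contains (d % x.1)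

theorem min_chk : ((List.range 65).all fun d =>
    decide (¬ d ∣ 64561751654400) || !res d || d == 1 || Nat.blt d 63) = true := by
  decide +kernel

theorem deg {d : ℕ} (hd : d ∈ charDegrees Spor.Fi22) :
    d ∣ 64561751654400 ∧ (d = 1 ∨ 65 ≤ d) ∧ res d = true := by
  obtain ⟨χ, rfl⟩ := hd
  have := simple
  have := fin
  have h13 := H511.Ore.res_of_has not_comm card has13 ok13 χ
  have h11 := H511.Ore.res_of_has not_comm card has11 ok11 χ
  have hdvd : charDegree (χ : Spor.Fi22 → ℂ) ∣ 64561751654400 := card ▸ H511.Ore.charDegree_dvd χ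
  have hres : res (charDegree (χ : Spor.Fi22 → ℂ)) = true := by
    rw [res, List.all_eq_true]
    intro x hx
    simp only [List.mem_cons, List.not_mem_nil, or_false] at hx
    rcases hx with rfl | rfl
    · simp only [c13, List.any_cons, List.any_nil, Bool.or_false, Bool.or_eq_true] at h13
      rcases h13 with h | h | h | h | h <;> rw [Nat.eq_of_beq_eq_true h] <;> decide
    · simp only [c11, List.any_cons, List.any_nil, Bool.or_false, Bool.or_eq_true] at h11
      rcases h11 with h | h | h | h | h <;> rw [Nat.eq_of_beq_eq_true h] <;> decide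
  refine ⟨hdvd, ?_, hres⟩
  by_cases h : (χ : Spor.Fi22 → ℂ) = 1
  · left
    rw [h]
    simp [charDegree]
  · have h63 := H133.Ore.minDeg_of_rep not_comm Fi.minDeg χ h
    rcases Nat.lt_or_ge (charDegree (χ : Spor.Fi22 → ℂ)) 65 with h1 | h1
    · left
      have h3 := List.all_eq_true.1 min_chk _ (List.mem_range.2 h1)
      rw [hres, decide_eq_false (not_not.2 hdvd), Bool.false_or, Bool.not_true, Bool.false_or, Bool.or_eq_true,
        beq_iff_eq, Nat.blt_eq] at h3
      omega
    · exact Or.inr h1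

theorem degX {X : Type*} [Group X] (hX : Spor.IsoFi22 X) {d : ℕ} (hd : d ∈ charDegrees X) :
    d ∣ 64561751654400 ∧ (d = 1 ∨ 65 ≤ d) ∧ res d = true := by
  obtain ⟨e⟩ := hX
  exact deg (H664.Eight.charDegrees_subset e.symm hd)

/-- with the residues modulo 11 -/
theorem num' {X : Type*} [Group X] (hX : Spor.IsoFi22 X) :
    H450.S8.Num (charDegrees X) 64561751654400 (H450.S8.okDeg 65 [(13, 6), (11, 5)]) where
  pos := by norm_num
  dvd hd := (degX hX hd).1
  ok {d} hd := by
    obtain ⟨-, h1, h2⟩ := degX hX hd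
    rw [H450.S8.okDeg, Bool.and_eq_true]
    refine ⟨?_, h2⟩
    rw [Bool.or_eq_true, beq_iff_eq, decide_eq_true_eq]
    exact h1

theorem num {X : Type*} [Group X] (hX : Spor.IsoFi22 X) :
    H450.S8.Num (charDegrees X) 64561751654400 (H450.S8.okDeg 65 [(13, 6)]) where
  pos := by norm_num
  dvd hd := (degX hX hd).1
  ok {d} hd := by
    obtain ⟨-, h1, h2⟩ := degX hX hd
    rw [H450.S8.okDeg, Bool.and_eq_true]
    refine ⟨?_, ?_⟩
    · rw [Bool.or_eq_true, beq_iff_eq, decide_eq_true_eq]
      exact h1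
    · rw [List.all_eq_true]
      intro x hx
      rw [List.mem_singleton] at hx
      subst hx
      exact List.all_eq_true.1 h2 (13, 6) (by simp)

theorem index_le {X : Type*} [Group X] (hX : Spor.IsoFi22 X) : (MulAut.conj : X →* MulAut X).range.index ≤ 2 := by
  obtain ⟨e⟩ := hX
  rw [H498.SporOut.index_congr e]
  exact Cfsg.Agent.S2079.result.le

end Cfsg.Agent.H952.S8.FiDeg
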