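import Cfsg.Agent.H952.S8.Pure
import Cfsg.Agent.Fischer.Fi22Order

/-!
# `Fi₂₂`: the nontrivial complex representations have degree at least 63 (helper952)

The translations of the affine Weyl group `W(E₇~)` (generators `a, …, h`) generate a subgroup of order 64 of `Fi₂₂` with
63 conjugate involutions.  Kernel check on 3510 points.
-/

set_option autoImplicit false
set_option maxRecDepth 100000

namespace Cfsg.Agent.H952.S8.Fi

open Cfsg Cfsg.Spor Cfsg.Spor.Fi22 Cfsg.Agent.Fischer.Fi22PtsRep Cfsg.Agent.Fischer.Fi22Order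
open Cfsg.Agent.Lib.PermNet Cfsg.Agent.Lib.PermNetOrbit

/-- the nonempty products -/
def sW : List (List Gen) → List (List Gen)
  | [] => []
  | e :: L => sW L ++ (e :: (sW L).map (e ++ ·))

theorem sT_map : ∀ L : List (List Gen), Pure.sT (L.map wd) = (sW L).map wd
  | [] => rfl
  | e :: L => by
    rw [List.map_cons, Pure.sT, sT_map L, sW, List.map_append, List.map_cons, List.map_map, List.map_map]
    congr 2
    exact List.map_congr_left fun w _ => (wd_append e w).symm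

theorem wd_eq {v w : List Gen} (h : checkEq 12 (nw v) (nw w) = true) : wd v = wd w := by
  apply φ_injective
  rw [φ_wd, φ_wd]
  exact wperm_eq_of_checkEq (k := 12) (nw_ok _) (nw_ok _) h

/-- the check of the conjugations -/
noncomputable def chkL (z : List Gen) : List (List Gen) → List (List Gen) → Bool
  | [], _ => true
  | _ :: _, [] => false
  | w :: l, u :: us => checkEq 12 (nw (u ++ z)) (nw (w ++ u)) && chkL z l us

theorem chkL_spec {z : List Gen} : ∀ {l us : List (List Gen)}, chkL z l us = true →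
    ∀ w ∈ l, IsConj (wd z) (wd w)
  | [], _, _ => fun w hw => absurd hw List.not_mem_nil
  | _ :: _, [], h => by simp [chkL] at h
  | w :: l, u :: us, h => by
    rw [chkL, Bool.and_eq_true] at h
    intro w' hw'
    rcases List.mem_cons.1 hw' with rfl | hw'
    · have h1 := wd_eq h.1
      rw [wd_append, wd_append] at h1
      rw [isConj_iff]
      exact ⟨wd u, by rw [h1, mul_inv_cancel_right]⟩
    · exact chkL_spec h.2 w' hw'

/-- the basis -/
def B : List (List Gen) := [[.g, .f, .e, .d, .h, .c, .d, .e, .b, .c, .d, .h, .f, .e, .d, .c, .b, .a, .b, .c, .d, .e,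
  .f, .h, .d, .c, .b, .e, .d, .c, .h, .d, .e, .f], [.g, .f, .g, .e, .d, .h, .c, .d, .e, .b, .c, .d, .h, .f, .e, .d,
  .c, .b, .a, .b, .c, .d, .e, .f, .h, .d, .c, .b, .e, .d, .c, .h, .d, .e], [.g, .f, .e, .f, .g, .d, .h, .c, .d, .e,
  .b, .c, .d, .h, .f, .e, .d, .c, .b, .a, .b, .c, .d, .e, .f, .h, .d, .c, .b, .e, .d, .c, .h, .d], [.g, .f, .e, .d,
  .e, .f, .g, .h, .c, .d, .e, .b, .c, .d, .h, .f, .e, .d, .c, .b, .a, .b, .c, .d, .e, .f, .h, .d, .c, .b, .e, .d, .c,
  .h], [.g, .f, .e, .d, .c, .d, .e, .f, .g, .h, .d, .e, .b, .c, .d, .h, .f, .e, .d, .c, .b, .a, .b, .c, .d, .e, .f,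
  .h, .d, .c, .b, .e, .d, .h], [.g, .f, .e, .d, .c, .b, .c, .d, .e, .f, .g, .h, .d, .e, .c, .d, .h, .f, .e, .d, .c,
  .b, .a, .b, .c, .d, .e, .f, .h, .d, .c, .e, .d, .h]]

def z : List Gen := [.g, .f, .e, .d, .h, .c, .d, .e, .b, .c, .d, .h, .f, .e, .d, .c, .b, .a, .b, .c, .d, .e, .f, .h,
  .d, .c, .b, .e, .d, .c, .h, .d, .e, .f]

def U0 : List (List Gen) := [[.b, .c, .d, .e, .f], [.c, .d, .e, .f], [.c, .d, .e, .f, .g, .b, .c, .d, .e, .f], [.d,
  .e, .f], [.d, .e, .f, .g, .b, .c, .d, .e, .f], [.d, .e, .f, .g, .c, .d, .e, .f], [.h, .a, .b, .c, .d, .e, .f], [.e,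
  .f], [.e, .f, .g, .b, .c, .d, .e, .f]]

def U1 : List (List Gen) := [[.e, .f, .g, .c, .d, .e, .f], [.d, .h, .a, .b, .c, .d, .e, .f], [.e, .f, .g, .d, .e, .f],
  [.c, .d, .h, .a, .b, .c, .d, .e, .f], [.e, .d, .h, .g, .c, .d, .e, .f], [.h, .e, .f, .g, .a, .b, .c, .d, .e, .f],
  [.f], [.f, .g, .b, .c, .d, .e, .f], [.f, .g, .c, .d, .e, .f]]

def U2 : List (List Gen) := [[.e, .d, .h, .a, .b, .c, .d, .e, .f], [.f, .g, .d, .e, .f], [.d, .h, .g, .b, .c, .d, .e,
  .f], [.d, .h, .g, .c, .d, .e, .f], [.h, .f, .g, .a, .b, .c, .d, .e, .f], [.f, .g, .e, .f], [.h, .g, .b, .c, .d, .e,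
  .f], [.h, .g, .c, .d, .e, .f], [.d, .h, .f, .g, .a, .b, .c, .d, .e, .f]]

def U3 : List (List Gen) := [[.h, .g, .d, .e, .f], [.f, .e, .d, .h, .b, .c, .d, .e, .f], [.f, .e, .d, .h, .c, .d, .e,
  .f], [.g, .a, .b, .c, .d, .e, .f], [], [.g, .b, .c, .d, .e, .f], [.g, .c, .d, .e, .f], [.f, .e, .d, .h, .a, .b, .c,
  .d, .e, .f], [.g, .d, .e, .f]]

def U4 : List (List Gen) := [[.d, .h, .f, .g, .b, .c, .d, .e, .f], [.d, .h, .f, .g, .c, .d, .e, .f], [.h, .g, .a, .b,
  .c, .d, .e, .f], [.g, .e, .f], [.h, .f, .g, .b, .c, .d, .e, .f], [.h, .f, .g, .c, .d, .e, .f], [.d, .h, .g, .a, .b,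
  .c, .d, .e, .f], [.h, .f, .g, .d, .e, .f], [.e, .d, .h, .b, .c, .d, .e, .f]]

def U5 : List (List Gen) := [[.e, .d, .h, .c, .d, .e, .f], [.f, .g, .a, .b, .c, .d, .e, .f], [.g, .f], [.h, .e, .f,
  .g, .b, .c, .d, .e, .f], [.h, .e, .f, .g, .c, .d, .e, .f], [.c, .d, .h, .b, .c, .d, .e, .f], [.h, .e, .f, .g, .d,
  .e, .f], [.d, .h, .b, .c, .d, .e, .f], [.d, .h, .c, .d, .e, .f]]

def U6 : List (List Gen) := [[.e, .f, .g, .a, .b, .c, .d, .e, .f], [.d, .h, .e, .f, .g, .d, .e, .f], [.h, .b, .c, .d,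
  .e, .f], [.h, .c, .d, .e, .f], [.d, .e, .f, .g, .a, .b, .c, .d, .e, .f], [.h, .d, .e, .f], [.c, .d, .e, .f, .g, .a,
  .b, .c, .d, .e, .f], [.b, .c, .d, .e, .f, .g, .a, .b, .c, .d, .e, .f], [.a, .b, .c, .d, .e, .f]]

theorem c0 : chkL z (((sW B).drop 0).take 9) U0 = true := by decide +kernel

theorem c1 : chkL z (((sW B).drop 9).take 9) U1 = true := by decide +kernel

theorem c2 : chkL z (((sW B).drop 18).take 9) U2 = true := by decide +kernel

theorem c3 : chkL z (((sW B).drop 27).take 9) U3 = true := by decide +kernel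

theorem c4 : chkL z (((sW B).drop 36).take 9) U4 = true := by decide +kernel

theorem c5 : chkL z (((sW B).drop 45).take 9) U5 = true := by decide +kernel

theorem c6 : chkL z (((sW B).drop 54).take 9) U6 = true := by decide +kernel

theorem split : sW B = ((sW B).drop 0).take 9 ++ (((sW B).drop 9).take 9 ++ (((sW B).drop 18).take 9 ++
    (((sW B).drop 27).take 9 ++ (((sW B).drop 36).take 9 ++ (((sW B).drop 45).take 9 ++ ((sW B).drop 54).take 9))))) := by
  decide +kernel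

theorem conj (w : List Gen) (hw : w ∈ sW B) : IsConj (wd z) (wd w) := by
  rw [split] at hw
  simp only [List.mem_append] at hw
  rcases hw with h | h | h | h | h | h | h
  · exact chkL_spec c0 w h
  · exact chkL_spec c1 w h
  · exact chkL_spec c2 w h
  · exact chkL_spec c3 w h
  · exact chkL_spec c4 w h
  · exact chkL_spec c5 w h
  · exact chkL_spec c6 w h

theorem sq : (B.all fun e => checkEq 12 (nw (e ++ e)) (nw [])) = true := by decide +kernel

/-- the check of the commutations -/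
noncomputable def chkP : List (List Gen) → Bool
  | [] => true
  | e :: L => (L.all fun a => checkEq 12 (nw (e ++ a)) (nw (a ++ e))) && chkP L

theorem chkP_spec : ∀ {L : List (List Gen)}, chkP L = true →
    (L.map wd).Pairwise fun a b => a * b = b * a
  | [], _ => List.Pairwise.nil
  | e :: L, h => by
    rw [chkP, Bool.and_eq_true] at h
    rw [List.map_cons, List.pairwise_cons]
    refine ⟨fun a ha => ?_, chkP_spec h.2⟩
    obtain ⟨w, hw, rfl⟩ := List.mem_map.1 ha
    have h1 := wd_eq (List.all_eq_true.1 h.1 w hw)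
    rwa [wd_append, wd_append] at h1

theorem cP : chkP B = true := by decide +kernel

theorem z_ne : (List.range 14).any (fun p => !Nat.beq (ptWord (nw z) p) p) = true := by decide +kernel

theorem z_ne_one : wd z ≠ 1 := by
  intro h1
  obtain ⟨p, -, h2⟩ := List.any_eq_true.mp z_ne
  have h3 := φ_wd_apply z p
  rw [h1, map_one, Equiv.Perm.one_apply] at h3
  rw [← h3, Nat.beq_refl] at h2
  exact absurd h2 (by simp)

theorem z_mem : z ∈ B := List.mem_cons_self

theorem sq' {e : Spor.Fi22} (he : e ∈ B.map wd) : e * e = 1 := by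
  obtain ⟨w, hw, rfl⟩ := List.mem_map.1 he
  have h1 := wd_eq (List.all_eq_true.1 sq w hw)
  rwa [wd_append, wd_nil] at h1

/-- **the nontrivial representations of `Fi₂₂` have degree at least 63** -/
theorem minDeg [IsSimpleGroup Spor.Fi22] : H122.MinDeg Spor.Fi22 63 := by
  refine Pure.minDeg_of_pure (L := B.map wd) (fun e he => sq' he) (chkP_spec cP) (z := wd z)
    (sq' (List.mem_map_of_mem z_mem)) z_ne_one ?_
  intro t ht
  rw [sT_map] at ht
  obtain ⟨w, hw, rfl⟩ := List.mem_map.1 ht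
  exact conj w hw

end Cfsg.Agent.H952.S8.Fi
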