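import Cfsg.Agent.H393.S8.ON
import Cfsg.Agent.H664.Eight.Base
import Cfsg.Agent.H450.S8.Core
import Cfsg.Agent.H498.SporOut

/-!
# S4908, `O'N`: the numerical facts on the degrees (helper952)

From the list of candidates `H393.S8.ON.Adm`: a degree of `O'N` divides `|O'N|`, is `1` or at least `32`, and is
`0, ±1, ±15` modulo `31` and `0, ±1` modulo `11`.
-/

set_option autoImplicit false
set_option maxRecDepth 100000

open Cfsg Subgroup

namespace Cfsg.Agent.H952.S8.ON

theorem chk : (H393.S8.ON.Adm.all fun d =>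
    decide (d ∣ 460815505920) && H450.S8.okDeg 29 [(31, 15), (11, 10)] d) = true := by decide +kernel

theorem num {X : Type*} [Group X] (hX : Spor.IsoON X) :
    H450.S8.Num (charDegrees X) 460815505920 (H450.S8.okDeg 29 [(31, 15), (11, 10)]) := by
  obtain ⟨e⟩ := hX
  have key : ∀ {d : ℕ}, d ∈ charDegrees X → d ∣ 460815505920 ∧ H450.S8.okDeg 29 [(31, 15), (11, 10)] d = true := by
    intro d hd
    have h1 := List.all_eq_true.1 chk d (H393.S8.ON.adm_of_mem (H664.Eight.charDegrees_subset e.symm hd))
    rw [Bool.and_eq_true, decide_eq_true_eq] at h1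
    exact h1
  exact ⟨by norm_num, fun hd => (key hd).1, fun hd => (key hd).2⟩

/-- the list of candidates as a test -/
theorem numL {X : Type*} [Group X] (hX : Spor.IsoON X) :
    H450.S8.Num (charDegrees X) 460815505920 H393.S8.ON.Adm.contains := by
  obtain ⟨e⟩ := hX
  refine ⟨by norm_num, fun hd => ?_, fun hd => ?_⟩
  · have h1 := List.all_eq_true.1 chk _ (H393.S8.ON.adm_of_mem (H664.Eight.charDegrees_subset e.symm hd))
    rw [Bool.and_eq_true, decide_eq_true_eq] at h1
    exact h1.1
  · exact List.contains_iff_mem.2 (H393.S8.ON.adm_of_mem (H664.Eight.charDegrees_subset e.symm hd))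

theorem index_le {X : Type*} [Group X] (hX : Spor.IsoON X) : (MulAut.conj : X →* MulAut X).range.index ≤ 2 := by
  obtain ⟨e⟩ := hX
  rw [H498.SporOut.index_congr e]
  exact Cfsg.Agent.S2078.result.le

end Cfsg.Agent.H952.S8.ON
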