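import Cfsg.Agent.H122.MinDeg
import Cfsg.Agent.H121.Chr

/-!
# Pure elementary abelian 2-subgroups and degrees (helper952)

`minDeg_of_pure` : if commuting involutions `e₁, …, eₙ` of a simple group are such that all the nonempty products are
conjugate to `z`, then every nontrivial complex representation has degree at least `2 ^ n - 1`.
-/

set_option autoImplicit false

namespace Cfsg.Agent.H952.S8.Pure

open Module Cfsg.Agent.H122

/-- the nonempty products -/
def sT {G : Type*} [Mul G] : List G → List G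
  | [] => []
  | e :: L => sT L ++ (e :: (sT L).map (e * ·))

theorem length_sT {G : Type*} [Mul G] : ∀ L : List G, (sT L).length + 1 = 2 ^ L.length
  | [] => rfl
  | e :: L => by
    have h := length_sT L
    simp only [sT, List.length_append, List.length_cons, List.length_map, pow_succ]
    omega

section Ring

variable {G : Type*} [Group G] {R : Type*} [Ring R]

/-- the product of the `1 + ρ e` -/
def Q (f : G →* R) (L : List G) : R := (L.map fun a => 1 + f a).prod

theorem Q_nil (f : G →* R) : Q f [] = 1 := rfl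

theorem Q_cons (f : G →* R) (e : G) (L : List G) : Q f (e :: L) = (1 + f e) * Q f L := by
  rw [Q, List.map_cons, List.prod_cons, Q]

theorem Q_eq (f : G →* R) : ∀ L : List G, Q f L = 1 + ((sT L).map f).sum
  | [] => by simp [Q_nil, sT]
  | e :: L => by
    have h1 : (List.map (fun t => f (e * t)) (sT L)).sum = f e * ((sT L).map f).sum := by
      rw [← List.sum_map_mul_left]
      simp only [map_mul]
    rw [Q_cons, Q_eq f L, sT, List.map_append, List.sum_append, List.map_cons, List.sum_cons, List.map_map]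
    change _ = 1 + ((List.map f (sT L)).sum + (f e + (List.map (fun t => f (e * t)) (sT L)).sum))
    rw [h1]
    noncomm_ring

theorem Q_comm (f : G →* R) {e : G} : ∀ {L : List G}, (∀ a ∈ L, e * a = a * e) → Commute (1 + f e) (Q f L)
  | [], _ => by rw [Q_nil]; exact Commute.one_right _
  | a :: L, h => by
    rw [Q_cons]
    refine Commute.mul_right ?_ (Q_comm f fun b hb => h b (List.mem_cons_of_mem _ hb))
    have h1 : Commute (f e) (f a) := by
      change f e * f a = f a * f e
      rw [← map_mul, ← map_mul, h a List.mem_cons_self]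
    exact ((Commute.one_left _).add_left ((Commute.one_right _).add_right h1))

theorem Q_sq (f : G →* R) : ∀ {L : List G}, (∀ e ∈ L, e * e = 1) → (L.Pairwise fun a b => a * b = b * a) →
    Q f L * Q f L = ((2 ^ L.length : ℕ) : R) * Q f L
  | [], _, _ => by simp [Q_nil]
  | e :: L, h1, h2 => by
    rw [List.pairwise_cons] at h2
    have ih := Q_sq f (fun a ha => h1 a (List.mem_cons_of_mem _ ha)) h2.2
    have hc := Q_comm f h2.1
    have he : f e * f e = 1 := by rw [← map_mul, h1 e List.mem_cons_self, map_one]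
    have h3 : (1 + f e) * (1 + f e) = ((2 : ℕ) : R) * (1 + f e) := by
      have : (1 + f e) * (1 + f e) = 1 + f e + f e + f e * f e := by noncomm_ring
      rw [this, he]
      push_cast
      noncomm_ring
    rw [Q_cons, List.length_cons]
    calc (1 + f e) * Q f L * ((1 + f e) * Q f L) = (1 + f e) * (Q f L * (1 + f e)) * Q f L := by
          simp only [mul_assoc]
      _ = (1 + f e) * ((1 + f e) * Q f L) * Q f L := by rw [← hc.eq]
      _ = ((1 + f e) * (1 + f e)) * (Q f L * Q f L) := by simp only [mul_assoc]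
      _ = (((2 : ℕ) : R) * (1 + f e)) * (((2 ^ L.length : ℕ) : R) * Q f L) := by rw [h3, ih]
      _ = ((2 ^ (L.length + 1) : ℕ) : R) * ((1 + f e) * Q f L) := by
          rw [pow_succ', Nat.cast_mul]
          simp only [mul_assoc]
          rw [← mul_assoc (1 + f e), ← (Nat.cast_commute (2 ^ L.length) (1 + f e)).eq]
          simp only [mul_assoc]

end Ring

section Rep

variable {M : Type*} [AddCommGroup M] [Module ℂ M] [FiniteDimensional ℂ M]

/-- the trace of a multiple of an idempotent -/
theorem trace_nat {P : M →ₗ[ℂ] M} {N : ℕ} (hN : N ≠ 0) (h : P * P = (N : M →ₗ[ℂ] M) * P) :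
    ∃ m : ℕ, LinearMap.trace ℂ M P = (N : ℂ) * m ∧ (m = 0 → P = 0) := by
  have hN' : (N : ℂ) ≠ 0 := Nat.cast_ne_zero.2 hN
  set E : M →ₗ[ℂ] M := (N : ℂ)⁻¹ • P with hE
  have hP : P = (N : ℂ) • E := by rw [hE, smul_smul, mul_inv_cancel₀ hN', one_smul]
  have h0 : (N : M →ₗ[ℂ] M) * P = (N : ℂ) • P := by
    ext v
    rw [Module.End.mul_apply, LinearMap.smul_apply, Module.End.natCast_apply, Nat.cast_smul_eq_nsmul]
  have hEE : IsIdempotentElem E := by
    change E * E = E
    rw [hE, smul_mul_smul_comm, h, h0, smul_smul]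
    congr 1
    field_simp
  have h1 := (LinearMap.IsIdempotentElem.isProj_range E hEE).trace
  refine ⟨finrank ℂ (LinearMap.range E), ?_, fun h2 => ?_⟩
  · rw [hP, map_smul, h1, smul_eq_mul]
  · have h3 : LinearMap.range E = ⊥ := Submodule.finrank_eq_zero.1 h2
    rw [hP, LinearMap.range_eq_bot.1 h3, smul_zero]

variable {G : Type*} [Group G] (ρ : Representation ℂ G M)

theorem bound {L : List G} (h1 : ∀ e ∈ L, e * e = 1) (h2 : L.Pairwise fun a b => a * b = b * a) {z : G}
    (hz : z * z = 1) (h : ∀ t ∈ sT L, IsConj z t) (hρ : ρ z ≠ 1) : 2 ^ L.length ≤ finrank ℂ M + 1 := by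
  set k := finrank ℂ M with hk
  set n := L.length with hn
  have hT : (ρ z) * (ρ z) = 1 := by rw [← map_mul, hz, map_one]
  obtain ⟨r, hr, hr0⟩ := trace_nat (P := 1 - ρ z) (N := 2) (by norm_num) (by
    have : (1 - ρ z) * (1 - ρ z) = 1 - ρ z - ρ z + ρ z * ρ z := by noncomm_ring
    rw [this, hT]
    push_cast
    noncomm_ring)
  obtain ⟨m, hm, -⟩ := trace_nat (P := Q ρ L) (N := 2 ^ n) (by positivity) (Q_sq ρ h1 h2)
  have hr1 : r ≠ 0 := fun h0 => hρ (by
    have := hr0 h0
    rw [sub_eq_zero] at this
    exact this.symm)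
  have hx : LinearMap.trace ℂ M (ρ z) = k - 2 * r := by
    rw [map_sub, LinearMap.trace_one] at hr
    push_cast at hr
    linear_combination -hr
  have hs : LinearMap.trace ℂ M ((sT L).map ρ).sum = ((2 ^ n - 1 : ℕ) : ℂ) * (k - 2 * r) := by
    have key : ∀ l : List G, (∀ t ∈ l, IsConj z t) →
        LinearMap.trace ℂ M (l.map ρ).sum = (l.length : ℂ) * (k - 2 * r) := by
      intro l
      induction l with
      | nil => intro _; simp
      | cons t l ih =>
        intro hl
        rw [List.map_cons, List.sum_cons, map_add, ih fun s hs => hl s (List.mem_cons_of_mem _ hs)]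
        obtain ⟨c, hc⟩ := isConj_iff.1 (hl t List.mem_cons_self)
        have h5 : LinearMap.trace ℂ M (ρ t) = k - 2 * r := by
          rw [← hc, ← hx]
          exact Cfsg.Agent.H121.Chr.trace_conj ρ c z
        rw [h5, List.length_cons]
        push_cast
        ring
    rw [key _ h]
    have h20 := length_sT L
    rw [← hn] at h20
    rw [show (sT L).length = 2 ^ n - 1 by omega]
  rw [Q_eq, map_add, LinearMap.trace_one, hs] at hm
  have hpos : 1 ≤ 2 ^ n := Nat.one_le_two_pow
  have h6 : ((k : ℤ) + (2 ^ n - 1) * (k - 2 * r) : ℤ) = 2 ^ n * m := by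
    have h7 : (k : ℂ) + ((2 : ℂ) ^ n - 1) * (k - 2 * r) = 2 ^ n * m := by
      rw [Nat.cast_sub hpos] at hm
      push_cast at hm
      exact hm
    exact_mod_cast h7
  have hN1 : (1 : ℤ) ≤ 2 ^ n := by exact_mod_cast hpos
  set N : ℤ := 2 ^ n with hNdef
  have h8 : 2 * (r : ℤ) = N * (2 * r - k + m) := by linear_combination h6
  have h9 : (0 : ℤ) < 2 * r - k + m := by
    have h10 : (0 : ℤ) < N * (2 * r - k + m) := by
      rw [← h8]
      have : (0 : ℤ) < r := by exact_mod_cast Nat.pos_of_ne_zero hr1
      omega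
    exact (mul_pos_iff_of_pos_left (by omega)).1 h10
  have h11 : N ≤ 2 * r := by
    rw [h8]
    nlinarith
  have h12 : N * (k - (N - 1)) = N * m + (N - 1) * (2 * r - N) := by linear_combination h6
  have h13 : 0 ≤ N * (k - (N - 1)) := by
    rw [h12]
    have : (0 : ℤ) ≤ m := Int.natCast_nonneg m
    have h14 : 0 ≤ (N - 1) * (2 * r - N) := mul_nonneg (by omega) (by omega)
    positivity
  have h15 : 0 ≤ (k : ℤ) - (N - 1) := nonneg_of_mul_nonneg_right h13 (by omega)
  have h16 : ((2 ^ n : ℕ) : ℤ) ≤ ((k + 1 : ℕ) : ℤ) := by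
    push_cast
    rw [← hNdef]
    omega
  exact_mod_cast h16

end Rep

/-- **the degree bound from a pure subgroup** -/
theorem minDeg_of_pure {G : Type*} [Group G] [IsSimpleGroup G] {L : List G} (h1 : ∀ e ∈ L, e * e = 1)
    (h2 : L.Pairwise fun a b => a * b = b * a) {z : G} (hz : z * z = 1) (hz1 : z ≠ 1) (h : ∀ t ∈ sT L, IsConj z t) :
    MinDeg G (2 ^ L.length - 1) := by
  intro M _ _ _ ρ hρ
  have := bound ρ h1 h2 hz h (Cfsg.Agent.H121.Chr.faithful ρ hρ hz1)
  omega

end Cfsg.Agent.H952.S8.Pure
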